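import Groth.Prelude.Def_CGrpSh
import Groth.Prelude.Def_W4c1extbt15Mult
import Mathlib.CategoryTheory.Sites.LocallySurjective
import Mathlib.CategoryTheory.Sites.EpiMono
import Mathlib.Algebra.Homology.ShortComplex.Ab

/-!
# Descent of multilinear morphisms along epimorphisms of sheaves of points
-/

set_option autoImplicit false
set_option backward.isDefEq.respectTransparency false
set_option backward.isDefEq.respectTransparency.types false

universe w v u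

open CategoryTheory CategoryTheory.Limits MonoidalCategory CartesianMonoidalCategory MonObj Opposite

noncomputable section

namespace Groth.Agent.MultDesc

section Site

variable {C : Type u} [Category.{v} C] (J : GrothendieckTopology C) [J.Subcanonical]

/-- morphisms agreeing on a covering sieve are equal -/
theorem eq_of_cover {T N : C} {a b : T ⟶ N} {R : Sieve T} (hR : R ∈ J T)
    (h : ∀ ⦃V⦄ (f : V ⟶ T), R f → f ≫ a = f ≫ b) : a = b :=
  ((GrothendieckTopology.Subcanonical.isSheaf_of_isRepresentable (J := J) (yoneda.obj N)) R hR).isSeparatedFor.ext h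

/-- descent of a morphism constant on the fibres of a locally surjective morphism -/
theorem exists_desc {A B N : C} (p : A ⟶ B) (φ : A ⟶ N)
    (hsurj : ∃ R ∈ J B, ∀ ⦃V⦄ (f : V ⟶ B), R f → ∃ a : V ⟶ A, a ≫ p = f)
    (hconst : ∀ (T : C) (a b : T ⟶ A), a ≫ p = b ≫ p → a ≫ φ = b ≫ φ) :
    ∃ φ' : B ⟶ N, p ≫ φ' = φ ∧ ∀ φ'' : B ⟶ N, p ≫ φ'' = φ → φ'' = φ' := by
  obtain ⟨R, hR, ha⟩ := hsurj
  choose a ha using ha
  let x : Presieve.FamilyOfElements (yoneda.obj N) R.arrows := fun V f hf => a f hf ≫ φ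
  have hx : x.Compatible := fun Y₁ Y₂ Z g₁ g₂ f₁ f₂ h₁ h₂ e => by
    show g₁ ≫ a f₁ h₁ ≫ φ = g₂ ≫ a f₂ h₂ ≫ φ
    rw [← Category.assoc, ← Category.assoc]
    exact hconst _ _ _ (by rw [Category.assoc, Category.assoc, ha, ha, e])
  have hsh := (GrothendieckTopology.Subcanonical.isSheaf_of_isRepresentable (J := J) (yoneda.obj N)) R hR
  obtain ⟨φ', hφ'⟩ : ∃ φ' : B ⟶ N, ∀ ⦃V⦄ (f : V ⟶ B) (hf : R f), f ≫ φ' = a f hf ≫ φ :=
    ⟨hsh.amalgamate x hx, fun V f hf => hsh.valid_glue hx f hf⟩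
  have hp : p ≫ φ' = φ := eq_of_cover J (J.pullback_stable p hR) fun V f hf => by
    rw [← Category.assoc, hφ' (f ≫ p) hf]
    exact hconst _ _ _ (ha _ hf)
  refine ⟨φ', hp, fun φ'' h => eq_of_cover J hR fun V f hf => ?_⟩
  rw [← ha f hf, Category.assoc, Category.assoc, h, hp]

/-- finitely many local lifts -/
theorem exists_lifts {M M'' T : C} (π : M ⟶ M'')
    (hsurj : ∀ (T : C) (b : T ⟶ M''), ∃ R ∈ J T, ∀ ⦃V⦄ (f : V ⟶ T), R f → ∃ a : V ⟶ M, a ≫ π = f ≫ b) :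
    ∀ {n : ℕ} (b : Fin n → (T ⟶ M'')),
      ∃ R ∈ J T, ∀ ⦃V⦄ (f : V ⟶ T), R f → ∃ a : Fin n → (V ⟶ M), ∀ l, a l ≫ π = f ≫ b l
  | 0, b => ⟨⊤, J.top_mem _, fun V f _ => ⟨fun l => l.elim0, fun l => l.elim0⟩⟩
  | n + 1, b => by
    obtain ⟨R, hR, h⟩ := hsurj T (b 0)
    obtain ⟨R', hR', h'⟩ := exists_lifts π hsurj fun l : Fin n => b l.succ
    refine ⟨R ⊓ R', J.intersection_covering hR hR', fun V f hf => ?_⟩
    obtain ⟨a, ha⟩ := h f hf.1
    obtain ⟨a', ha'⟩ := h' f hf.2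
    exact ⟨Fin.cons a a', Fin.cases (by simpa using ha) (fun l => by simpa using ha' l)⟩

end Site

section Pts

open AlgebraicGeometry

universe u₁

variable {S : Scheme.{u₁}} (K : Precoverage Scheme.{u₁}) [(QuotSh.J K S).Subcanonical] {G H L : Over S}
  [GrpObj G] [IsCommMonObj G] [GrpObj H] [IsCommMonObj H] [GrpObj L] [IsCommMonObj L]

theorem exists_lift_of_epi (π : G ⟶ H) [IsMonHom π] (hπ : Epi (CGrpSh.ptsMap K π)) (T : Over S) (b : T ⟶ H) :
    ∃ R ∈ QuotSh.J K S T, ∀ ⦃V⦄ (f : V ⟶ T), R f → ∃ a : V ⟶ G, a ≫ π = f ≫ b := by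
  haveI : Sheaf.IsLocallySurjective (CGrpSh.ptsMap K π) :=
    (Sheaf.isLocallySurjective_iff_epi' _ (CGrpSh.ptsMap K π)).2 hπ
  refine ⟨_, Presheaf.imageSieve_mem (QuotSh.J K S) (CGrpSh.ptsMap K π).hom (U := op T)
    (ULift.up (Additive.ofMul b)), fun V f hf => ?_⟩
  obtain ⟨t, ht⟩ := hf
  exact ⟨t.down.toMul, congrArg (fun s => (ULift.down s).toMul) ht⟩

theorem exists_lift_of_exact (j : G ⟶ H) (π : H ⟶ L) [IsMonHom j] [IsMonHom π] (w : j ≫ π = 1)
    (hex : (CGrpSh.seq K j π w).Exact) (T : Over S) (z : T ⟶ H) (hz : z ≫ π = 1) :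
    ∃ R ∈ QuotSh.J K S T, ∀ ⦃V⦄ (f : V ⟶ T), R f → ∃ a : V ⟶ G, a ≫ j = f ≫ z := by
  let S₀ := CGrpSh.seq K j π w
  haveI : Epi (kernel.lift S₀.g S₀.f S₀.zero) := S₀.exact_iff_epi_kernel_lift.1 hex
  haveI : Sheaf.IsLocallySurjective (kernel.lift S₀.g S₀.f S₀.zero) :=
    (Sheaf.isLocallySurjective_iff_epi' _ (kernel.lift S₀.g S₀.f S₀.zero)).2 inferInstance
  let F := sheafToPresheaf (QuotSh.J K S) AddCommGrpCat.{u₁ + 1} ⋙ (evaluation _ _).obj (op T)
  let S₁ : ShortComplex (BigSite.Ab K S) := ShortComplex.mk (kernel.ι S₀.g) S₀.g (kernel.condition _)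
  haveI : Mono S₁.f := inferInstanceAs (Mono (kernel.ι S₀.g))
  have h₁ := (S₁.exact_of_f_is_kernel (kernelIsKernel S₀.g)).map_of_mono_of_preservesKernel F ‹_› inferInstance
  rw [ShortComplex.ab_exact_iff] at h₁
  obtain ⟨v, hv⟩ := h₁ (ULift.up (Additive.ofMul z)) (ULift.ext _ _ (congrArg Additive.ofMul hz))
  refine ⟨_, Presheaf.imageSieve_mem (QuotSh.J K S) (kernel.lift S₀.g S₀.f S₀.zero).hom (U := op T) v,
    fun V f hf => ?_⟩
  obtain ⟨t, ht⟩ := hf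
  refine ⟨t.down.toMul, ?_⟩
  have h2 := congrArg (fun s => (kernel.ι S₀.g).hom.app (op V) s) ht
  have h3 : (kernel.ι S₀.g).hom.app (op V) ((kernel.lift S₀.g S₀.f S₀.zero).hom.app (op V) t) =
      S₀.f.hom.app (op V) t :=
    congrArg (fun m : S₀.X₁ ⟶ S₀.X₂ => m.hom.app (op V) t) (kernel.lift_ι S₀.g S₀.f S₀.zero)
  rw [h3] at h2
  have h4 := h2.trans ((ConcreteCategory.congr_hom ((kernel.ι S₀.g).hom.naturality f.op) v).trans
    (congrArg (fun s => (CGrpSh.pts K H).obj.map f.op s) hv))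
  exact congrArg (fun s => (ULift.down s).toMul) h4

end Pts

section Tuple

open MultSch

variable {C : Type u} [Category.{v} C] [CartesianMonoidalCategory C]

theorem comp_tuple {M T V : C} (f : V ⟶ T) : ∀ {n : ℕ} (x : Fin n → (T ⟶ M)), f ≫ tuple x = tuple fun l => f ≫ x l
  | 0, _ => toUnit_unique _ _
  | n + 1, x => (comp_lift f _ _).trans (congrArg (lift (f ≫ x 0)) (comp_tuple f fun l => x l.succ))

theorem exists_tuple {M T : C} : ∀ {n : ℕ} (a : T ⟶ pow M n), ∃ x : Fin n → (T ⟶ M), tuple x = a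
  | 0, a => ⟨fun l => l.elim0, toUnit_unique _ _⟩
  | n + 1, a => by
    obtain ⟨x, hx⟩ := exists_tuple (a ≫ snd M (pow M n))
    refine ⟨Fin.cons (a ≫ fst M (pow M n)) x, ?_⟩
    show lift _ (tuple fun l : Fin n => (Fin.cons (a ≫ fst M (pow M n)) x : Fin (n + 1) → (T ⟶ M)) l.succ) = a
    simp only [Fin.cons_zero, Fin.cons_succ, hx]
    exact (comp_lift a _ _).symm.trans ((congrArg (a ≫ ·) lift_fst_snd).trans (Category.comp_id a))

theorem tuple_injective {M T : C} : ∀ {n : ℕ} {x y : Fin n → (T ⟶ M)}, tuple x = tuple y → x = y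
  | 0, _, _, _ => funext fun l => l.elim0
  | n + 1, x, y, h => by
    have h1 : x 0 = y 0 := by simpa [tuple] using congrArg (· ≫ fst M (pow M n)) h
    have h2 : tuple (fun l => x l.succ) = tuple (fun l => y l.succ) := by
      simpa [tuple] using congrArg (· ≫ snd M (pow M n)) h
    exact funext (Fin.cases h1 (congrFun (tuple_injective h2)))

/-- the power of a morphism -/
def powMap {M M'' : C} (π : M ⟶ M'') : ∀ n : ℕ, pow M n ⟶ pow M'' n
  | 0 => 𝟙 _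
  | n + 1 => lift (fst M (pow M n) ≫ π) (snd M (pow M n) ≫ powMap π n)

theorem tuple_powMap {M M'' T : C} (π : M ⟶ M'') :
    ∀ {n : ℕ} (x : Fin n → (T ⟶ M)), tuple x ≫ powMap π n = tuple fun l => x l ≫ π
  | 0, _ => toUnit_unique _ _
  | n + 1, x => by
    show lift (x 0) (tuple fun l => x l.succ) ≫ lift (fst M (pow M n) ≫ π) (snd M (pow M n) ≫ powMap π n) = _
    rw [comp_lift, lift_fst_assoc, lift_snd_assoc, tuple_powMap π]
    rfl

theorem comp_update {M T V : C} {n : ℕ} (f : V ⟶ T) (x : Fin n → (T ⟶ M)) (i : Fin n) (y : T ⟶ M) :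
    (fun l => f ≫ Function.update x i y l) = Function.update (fun l => f ≫ x l) i (f ≫ y) := by
  funext l
  rcases eq_or_ne l i with rfl | h
  · simp
  · simp [Function.update_of_ne h]

theorem update_comp {M M'' T : C} {n : ℕ} (π : M ⟶ M'') (x : Fin n → (T ⟶ M)) (i : Fin n) (y : T ⟶ M) :
    (fun l => Function.update x i y l ≫ π) = Function.update (fun l => x l ≫ π) i (y ≫ π) := by
  funext l
  rcases eq_or_ne l i with rfl | h
  · simp
  · simp [Function.update_of_ne h]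

end Tuple

section Mult

open MultSch

variable {C : Type u} [Category.{v} C] [CartesianMonoidalCategory C] [BraidedCategory C] (J : GrothendieckTopology C)
  [J.Subcanonical]

theorem isAlternating_of_locally {M M'' H : C} [GrpObj H] (π : M ⟶ M'')
    (hsurj : ∀ (T : C) (b : T ⟶ M''), ∃ R ∈ J T, ∀ ⦃V⦄ (f : V ⟶ T), R f → ∃ a : V ⟶ M, a ≫ π = f ≫ b)
    {r : ℕ} (φ : MultSch.pow M'' r ⟶ H)
    (halt : ∀ (T : C) (x : Fin r → (T ⟶ M)) (i j : Fin r), i ≠ j → x i = x j →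
      MultSch.tuple (fun l => x l ≫ π) ≫ φ = 1) :
    MultSch.IsAlternating φ := by
  intro T x i j hij hx
  obtain ⟨R, hR, h⟩ := exists_lifts J π hsurj x
  refine eq_of_cover J hR fun V f hf => ?_
  obtain ⟨a, ha⟩ := h f hf
  have key : (fun l => Function.update a i (a j) l ≫ π) = fun l => f ≫ x l := by
    funext l
    rcases eq_or_ne l i with rfl | h'
    · rw [Function.update_self, ha, hx]
    · rw [Function.update_of_ne h', ha]
  rw [← Category.assoc, comp_tuple, ← key,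
    halt V _ i j hij (by rw [Function.update_self, Function.update_of_ne hij.symm]), MonObj.comp_one]

variable {M₁ M₂ M₃ N : C} [GrpObj M₁] [IsCommMonObj M₁] [GrpObj M₂] [IsCommMonObj M₂] [GrpObj M₃] [IsCommMonObj M₃]
  [GrpObj N] [IsCommMonObj N]

theorem vanish_slot {n : ℕ} (hn : 1 ≤ n) (φ : pow M₂ n ⟶ N) (hmult : IsMultilinear φ) (halt : IsAlternating φ)
    {T : C} (z : T ⟶ M₂) (h0 : ∀ x : Fin n → (T ⟶ M₂), x ⟨0, hn⟩ = z → tuple x ≫ φ = 1) (i : Fin n)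
    (x : Fin n → (T ⟶ M₂)) (hx : x i = z) : tuple x ≫ φ = 1 := by
  rcases eq_or_ne i ⟨0, hn⟩ with rfl | hi
  · exact h0 x hx
  let o : Fin n := ⟨0, hn⟩
  let U : (T ⟶ M₂) → (T ⟶ M₂) → (T ⟶ N) := fun y y' => tuple (Function.update (Function.update x o y) i y') ≫ φ
  have hz : ∀ y', U z y' = 1 := fun y' => h0 _ (by rw [Function.update_of_ne hi.symm, Function.update_self])
  have hd : ∀ y, U y y = 1 := fun y => halt T _ o i hi.symm
    (by rw [Function.update_of_ne hi.symm, Function.update_self, Function.update_self])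
  have hxw : U (x o) z = tuple x ≫ φ := by
    show tuple (Function.update (Function.update x o (x o)) i z) ≫ φ = _
    rw [Function.update_eq_self, ← hx, Function.update_eq_self]
  have hl : ∀ a b y', U (a * b) y' = U a y' * U b y' := fun a b y' => by
    have hc : ∀ w, Function.update (Function.update x o w) i y' = Function.update (Function.update x i y') o w :=
      fun w => Function.update_comm hi.symm _ _ _
    simp only [U, hc]
    exact hmult T _ o a b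
  have hr : ∀ a b y, U y (a * b) = U y a * U y b := fun a b y => hmult T _ i a b
  have := hd (x o * z)
  rw [hl, hr, hr, hd, hz, hz, _root_.one_mul, _root_.mul_one] at this
  rw [← hxw]
  simpa using this

theorem const_on_fibres {n : ℕ} (π : M₂ ⟶ M₃) [IsMonHom π] (φ : pow M₂ n ⟶ N) (hmult : IsMultilinear φ)
    (hker : ∀ (T : C) (z : T ⟶ M₂), z ≫ π = 1 → ∀ (i : Fin n) (x : Fin n → (T ⟶ M₂)), x i = z → tuple x ≫ φ = 1)
    (T : C) (x y : Fin n → (T ⟶ M₂)) (h : ∀ l, x l ≫ π = y l ≫ π) : tuple x ≫ φ = tuple y ≫ φ := by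
  classical
  suffices H : ∀ s : Finset (Fin n), tuple (fun l => if l ∈ s then y l else x l) ≫ φ = tuple x ≫ φ by
    simpa using (H Finset.univ).symm
  intro s
  induction s using Finset.induction with
  | empty => simp
  | insert a s ha ih =>
    let z : Fin n → (T ⟶ M₂) := fun l => if l ∈ s then y l else x l
    have hza : z a = x a := by simp [z, ha]
    have h1 : (fun l => if l ∈ insert a s then y l else x l) = Function.update z a (x a * ((x a)⁻¹ * y a)) := by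
      funext l
      rcases eq_or_ne l a with rfl | hl
      · simp
      · simp [Function.update_of_ne hl, z, hl]
    have hu : Function.update z a (x a) = z := by rw [← hza]; exact Function.update_eq_self a z
    rw [h1, hmult T z a (x a) ((x a)⁻¹ * y a), hu,
      hker T ((x a)⁻¹ * y a) (by rw [MonObj.mul_comp, GrpObj.inv_comp, h, inv_mul_cancel]) a (Function.update z a ((x a)⁻¹ * y a)) (Function.update_self a _ z),
      _root_.mul_one]
    exact ih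

theorem exists_factor {R : Type w} [CommRing R] (ρ₂ : RMod R M₂) (ρ₃ : RMod R M₃) (ρN : RMod R N)
    (j : M₁ ⟶ M₂) (π : M₂ ⟶ M₃) [IsMonHom π] (hπ : ∀ a : R, π ≫ ρ₃.act a = ρ₂.act a ≫ π)
    (hsurj : ∀ (T : C) (b : T ⟶ M₃), ∃ S ∈ J T, ∀ ⦃V⦄ (f : V ⟶ T), S f → ∃ a : V ⟶ M₂, a ≫ π = f ≫ b)
    (hker : ∀ (T : C) (z : T ⟶ M₂), z ≫ π = 1 → ∃ S ∈ J T, ∀ ⦃V⦄ (f : V ⟶ T), S f → ∃ a : V ⟶ M₁, a ≫ j = f ≫ z)
    {n : ℕ} (hn : 1 ≤ n) (φ : pow M₂ n ⟶ N) (hmult : IsMultilinear φ) (hlin : IsRLinear ρ₂ ρN φ)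
    (halt : IsAlternating φ)
    (hvan : ∀ (T : C) (y : T ⟶ M₁) (x : Fin n → (T ⟶ M₂)), x ⟨0, hn⟩ = y ≫ j → tuple x ≫ φ = 1) :
    ∃ φ' : pow M₃ n ⟶ N,
      (∀ (T : C) (x : Fin n → (T ⟶ M₂)), tuple x ≫ φ = tuple (fun l => x l ≫ π) ≫ φ') ∧
      IsMultilinear φ' ∧ IsRLinear ρ₃ ρN φ' ∧ IsAlternating φ' ∧
      ∀ φ'' : pow M₃ n ⟶ N, (∀ (T : C) (x : Fin n → (T ⟶ M₂)), tuple x ≫ φ = tuple (fun l => x l ≫ π) ≫ φ'') →
        φ'' = φ' := by
  have hk : ∀ (T : C) (z : T ⟶ M₂), z ≫ π = 1 → ∀ (i : Fin n) (x : Fin n → (T ⟶ M₂)), x i = z → tuple x ≫ φ = 1 := by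
    intro T z hz i x hx
    obtain ⟨Sv, hS, h⟩ := hker T z hz
    refine eq_of_cover J hS fun V f hf => ?_
    obtain ⟨a, ha⟩ := h f hf
    rw [← Category.assoc, comp_tuple, MonObj.comp_one]
    exact vanish_slot hn φ hmult halt (f ≫ z) (fun x' hx' => hvan V a x' (hx'.trans ha.symm)) i _ (by rw [hx])
  obtain ⟨φ', hφ', huniq⟩ := exists_desc J (powMap π n) φ
    (by
      obtain ⟨x, hx⟩ := exists_tuple (𝟙 (pow M₃ n))
      obtain ⟨Sv, hS, h⟩ := exists_lifts J π hsurj x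
      refine ⟨Sv, hS, fun V f hf => ?_⟩
      obtain ⟨a, ha⟩ := h f hf
      refine ⟨tuple a, ?_⟩
      rw [tuple_powMap, funext ha, ← comp_tuple, hx, Category.comp_id])
    (fun T a b hab => by
      obtain ⟨x, rfl⟩ := exists_tuple a
      obtain ⟨y, rfl⟩ := exists_tuple b
      rw [tuple_powMap, tuple_powMap] at hab
      exact const_on_fibres π φ hmult hk T x y (congrFun (tuple_injective hab)))
  have key : ∀ (T : C) (x : Fin n → (T ⟶ M₂)), tuple x ≫ φ = tuple (fun l => x l ≫ π) ≫ φ' := fun T x => by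
    rw [← tuple_powMap, Category.assoc, hφ']
  refine ⟨φ', key, fun T x i y z => ?_, fun T x i a => ?_,
    isAlternating_of_locally J π hsurj φ' fun T x i j' hij hx => (key T x).symm.trans (halt T x i j' hij hx),
    fun φ'' h => huniq φ'' ?_⟩
  · obtain ⟨Sv, hS, h⟩ := exists_lifts J π hsurj x
    obtain ⟨Sy, hSy, hy⟩ := hsurj T y
    obtain ⟨Sz, hSz, hz⟩ := hsurj T z
    refine eq_of_cover J (J.intersection_covering hS (J.intersection_covering hSy hSz)) fun V f hf => ?_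
    obtain ⟨a, ha⟩ := h f hf.1
    obtain ⟨b, hb⟩ := hy f hf.2.1
    obtain ⟨c, hc⟩ := hz f hf.2.2
    rw [MonObj.comp_mul, ← Category.assoc, ← Category.assoc, ← Category.assoc, comp_tuple, comp_tuple, comp_tuple,
      comp_update, comp_update, comp_update, MonObj.comp_mul, ← funext ha, ← hb, ← hc, ← MonObj.mul_comp,
      ← update_comp, ← update_comp, ← update_comp, ← key, ← key, ← key]
    exact hmult V a i b c
  · obtain ⟨Sv, hS, h⟩ := exists_lifts J π hsurj x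
    refine eq_of_cover J hS fun V f hf => ?_
    obtain ⟨t, ht⟩ := h f hf
    rw [← Category.assoc, ← Category.assoc, ← Category.assoc, comp_tuple, comp_tuple, comp_update,
      ← Category.assoc f (x i), ← ht i, ← funext ht, Category.assoc (t i), hπ, ← Category.assoc, ← update_comp,
      ← key, ← key]
    exact hlin V t i a
  · obtain ⟨x, hx⟩ := exists_tuple (𝟙 (pow M₂ n))
    have := h _ x
    rw [← tuple_powMap, hx, Category.id_comp, Category.id_comp] at this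
    exact this.symm

theorem exists_factor_slot {R : Type w} [CommRing R] {P Q : C} (ρ₂ : RMod R M₂) (ρ₃ : RMod R M₃) (ρN : RMod R N)
    (j : M₁ ⟶ M₂) (π : M₂ ⟶ M₃) [IsMonHom π] (hπ : ∀ a : R, π ≫ ρ₃.act a = ρ₂.act a ≫ π)
    (hsurj : ∀ (T : C) (b : T ⟶ M₃), ∃ S ∈ J T, ∀ ⦃V⦄ (f : V ⟶ T), S f → ∃ a : V ⟶ M₂, a ≫ π = f ≫ b)
    (hker : ∀ (T : C) (z : T ⟶ M₂), z ≫ π = 1 → ∃ S ∈ J T, ∀ ⦃V⦄ (f : V ⟶ T), S f → ∃ a : V ⟶ M₁, a ≫ j = f ≫ z)
    (ψ : P ⊗ (M₂ ⊗ Q) ⟶ N)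
    (hadd : ∀ (T : C) (p : T ⟶ P) (q : T ⟶ Q) (y z : T ⟶ M₂),
      lift p (lift (y * z) q) ≫ ψ = (lift p (lift y q) ≫ ψ) * (lift p (lift z q) ≫ ψ))
    (hlin : ∀ (T : C) (p : T ⟶ P) (q : T ⟶ Q) (y : T ⟶ M₂) (a : R),
      lift p (lift (y ≫ ρ₂.act a) q) ≫ ψ = (lift p (lift y q) ≫ ψ) ≫ ρN.act a)
    (hvan : ∀ (T : C) (p : T ⟶ P) (q : T ⟶ Q) (y' : T ⟶ M₁), lift p (lift (y' ≫ j) q) ≫ ψ = 1) :
    ∃ ψ' : P ⊗ (M₃ ⊗ Q) ⟶ N, (P ◁ (π ▷ Q)) ≫ ψ' = ψ ∧
      (∀ (T : C) (p : T ⟶ P) (q : T ⟶ Q) (y z : T ⟶ M₃),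
        lift p (lift (y * z) q) ≫ ψ' = (lift p (lift y q) ≫ ψ') * (lift p (lift z q) ≫ ψ')) ∧
      (∀ (T : C) (p : T ⟶ P) (q : T ⟶ Q) (y : T ⟶ M₃) (a : R),
        lift p (lift (y ≫ ρ₃.act a) q) ≫ ψ' = (lift p (lift y q) ≫ ψ') ≫ ρN.act a) ∧
      ∀ ψ'' : P ⊗ (M₃ ⊗ Q) ⟶ N, (P ◁ (π ▷ Q)) ≫ ψ'' = ψ → ψ'' = ψ' := by
  have hmap : ∀ (T : C) (p : T ⟶ P) (q : T ⟶ Q) (y : T ⟶ M₂),
      lift p (lift y q) ≫ (P ◁ (π ▷ Q)) = lift p (lift (y ≫ π) q) := fun T p q y => by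
    rw [lift_whiskerLeft, lift_whiskerRight]
  obtain ⟨ψ', hψ', huniq⟩ := exists_desc J (P ◁ (π ▷ Q)) ψ
    (by
      obtain ⟨Sv, hS, h⟩ := hsurj _ (snd P (M₃ ⊗ Q) ≫ fst M₃ Q)
      refine ⟨Sv, hS, fun V f hf => ?_⟩
      obtain ⟨a, ha⟩ := h f hf
      refine ⟨lift (f ≫ fst P _) (lift a (f ≫ snd P _ ≫ snd M₃ Q)), ?_⟩
      rw [hmap, ha, ← comp_lift, ← comp_lift, lift_comp_fst_snd, lift_fst_snd, Category.comp_id])
    (fun T a b hab => by
      have hA : ∀ t : T ⟶ P ⊗ (M₂ ⊗ Q), t = lift (t ≫ fst _ _) (lift (t ≫ snd _ _ ≫ fst _ _) (t ≫ snd _ _ ≫ snd _ _)) :=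
        fun t => by rw [← comp_lift, ← comp_lift, lift_comp_fst_snd, lift_fst_snd, Category.comp_id]
      rw [hA a, hA b, hmap, hmap] at hab
      have hp := congrArg (· ≫ fst _ _) hab
      have hm := congrArg (fun t => t ≫ snd _ _ ≫ fst _ _) hab
      have hq := congrArg (fun t => t ≫ snd _ _ ≫ snd _ _) hab
      simp only [lift_fst, lift_snd_assoc, lift_snd] at hp hm hq
      rw [hA a, hA b, hp, hq]
      set p := b ≫ fst P (M₂ ⊗ Q)
      set q := b ≫ snd P (M₂ ⊗ Q) ≫ snd M₂ Q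
      set y₁ := a ≫ snd P (M₂ ⊗ Q) ≫ fst M₂ Q
      set y₂ := b ≫ snd P (M₂ ⊗ Q) ≫ fst M₂ Q
      obtain ⟨Sv, hS, h⟩ := hker T (y₁⁻¹ * y₂) (by rw [MonObj.mul_comp, GrpObj.inv_comp, hm, inv_mul_cancel])
      have h1 : lift p (lift (y₁⁻¹ * y₂) q) ≫ ψ = 1 := eq_of_cover J hS fun V f hf => by
        obtain ⟨t, ht⟩ := h f hf
        rw [← Category.assoc, comp_lift, comp_lift, ← ht, hvan, MonObj.comp_one]
      have h2 := hadd T p q y₁ (y₁⁻¹ * y₂)
      rw [mul_inv_cancel_left, h1, _root_.mul_one] at h2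
      exact h2.symm)
  have key : ∀ (T : C) (p : T ⟶ P) (q : T ⟶ Q) (y : T ⟶ M₂),
      lift p (lift (y ≫ π) q) ≫ ψ' = lift p (lift y q) ≫ ψ := fun T p q y => by
    rw [← hmap, Category.assoc, hψ']
  refine ⟨ψ', hψ', fun T p q y z => ?_, fun T p q y a => ?_, huniq⟩
  · obtain ⟨Sy, hSy, hy⟩ := hsurj T y
    obtain ⟨Sz, hSz, hz⟩ := hsurj T z
    refine eq_of_cover J (J.intersection_covering hSy hSz) fun V f hf => ?_
    obtain ⟨b, hb⟩ := hy f hf.1
    obtain ⟨c, hc⟩ := hz f hf.2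
    simp only [MonObj.comp_mul, ← Category.assoc, comp_lift]
    rw [← hb, ← hc, ← MonObj.mul_comp, key, key, key]
    exact hadd V _ _ b c
  · obtain ⟨Sy, hSy, hy⟩ := hsurj T y
    refine eq_of_cover J hSy fun V f hf => ?_
    obtain ⟨b, hb⟩ := hy f hf
    simp only [← Category.assoc, comp_lift]
    rw [← hb, Category.assoc b, hπ, ← Category.assoc, key, key]
    exact hlin V _ _ b a

end Mult

end Groth.Agent.MultDesc
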